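import Mathlib
import Cfsg.Agent.H491.PB.ThC
import Cfsg.Agent.H227.IMTh
import Cfsg.Agent.H227.IMThF
import Cfsg.Agent.ThType.CentSevenWords
import Cfsg.Agent.FastGrp
import Cfsg.Agent.Prune
set_option linter.all false
prune_inst 0x7f00000000000000000000000000000000000000000000000000000000000000000000000000000000000000000000000000000000000000000000000000000000000000000000000000000000000000003fffffffffffffffffffffffffffbeffbdffffffff
open scoped Cfsg.Agent.FastGrp

/-!
# Centralizers in the Thompson group, II: elements of order 3 (helper491, for S4826)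

* `not_49` : `49 ∤ |C(y)|` for `y` of order 3;
* `not_25` : `25 ∤ |C(y)|` for `y` of order 3;
* `not_256` : `2 ^ 8 ∤ |C(y)|` for `y` of order 3.
-/

set_option autoImplicit false
set_option maxRecDepth 100000

namespace Cfsg.Agent.H491.PB.Th

open Subgroup Cfsg Cfsg.Agent.H502.TO
open Cfsg.Agent.Th.IndexUpper (gTh)
open Cfsg.Agent.CpAutTh.Data Cfsg.Agent.CpAutTh.Local
open Cfsg.Agent.Th.Word Cfsg.Agent.Th.CStruct Cfsg.Agent.Th.NineAct Cfsg.Agent.Th.Base Cfsg.Agent.Th.RelWords
  Cfsg.Agent.Th.PermTab Cfsg.Agent.Th.KOracle Cfsg.Agent.Th.KPerm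
open Cfsg.Agent.KFacts.Th.Mask Cfsg.Agent.KFacts.Th.Struct
open Cfsg.Agent.BpSpor.ThCent (card3 card33 card333)

/-! ### `GL₃(2)` -/

section SecG

open Cfsg.Agent.ThType.CentSevenGL

def mB : M3 := !![0,0,1;1,0,1;0,1,0]
def mB' : M3 := !![1,1,0;0,0,1;1,0,0]

def gB : G3 := ⟨mB, mB', by decide +kernel, by decide +kernel⟩

theorem gB_order : orderOf gB = 7 := by
  have : Fact (Nat.Prime 7) := ⟨by norm_num⟩
  refine orderOf_eq_prime ?_ ?_
  · ext1; decide +kernel
  · intro h
    have h1 : mB = 1 := congrArg Units.val h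
    revert h1
    decide +kernel

theorem cent_B : ∀ A : M3, A * mB = mB * A → A * A * A = 1 → A = 1 := by decide +kernel

/-- in `GL₃(2)` no elements of order 3 and 7 commute -/
theorem gl_three_seven {z w : G3} (hz : orderOf z = 3) (hw : orderOf w = 7) (hzw : z * w = w * z) : False := by
  have : Fact (Nat.Prime 7) := ⟨by norm_num⟩
  have h2 : ¬ 7 ^ 2 ∣ Nat.card G3 := by rw [card_G3]; norm_num
  obtain ⟨g, hg⟩ := CpAutON.Gen.conj_into h2 hw gB_order
  -- `g w g⁻¹ ∈ ⟨gB⟩`, so `gB ∈ ⟨g w g⁻¹⟩`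
  have h3 : zpowers (g * w * g⁻¹) = zpowers gB :=
    zpowers_eq (by norm_num) gB_order (by rw [orderOf_conj', hw]) hg
  have h4 : g * z * g⁻¹ ∈ centralizer ({gB} : Set G3) := by
    rw [← cent_eq_of_zpowers h3]
    exact mem_cent_conj (mem_centralizer_singleton_iff.2 hzw)
  have h5 := mem_centralizer_singleton_iff.1 h4
  set A := g * z * g⁻¹ with hA
  have hA3 : orderOf A = 3 := by rw [hA, orderOf_conj', hz]
  have h6 : (A : M3) * mB = mB * A := congrArg Units.val h5
  have h7 : (A : M3) * A * A = 1 := by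
    have h8 : A * A * A = 1 := by
      have := pow_orderOf_eq_one A
      rw [hA3, pow_succ, pow_two] at this
      exact this
    exact congrArg Units.val h8
  have h8 : A = 1 := Units.ext (cent_B A h6 h7)
  rw [h8, orderOf_one] at hA3
  norm_num at hA3

end SecG

/-! ### Elements of order 3 and 7 -/

/-- the subgroups of order `p ^ 2` are commutative; a subgroup of order `p ^ 2` of `C(y)` and an element of order `p` -/
theorem exists_sq {G : Type*} [Group G] [Finite G] {p : ℕ} (hp : p.Prime) {y : G}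
    (h : p ^ 2 ∣ Nat.card (centralizer ({y} : Set G))) :
    ∃ (P : Subgroup G) (u : G), Nat.card P = p ^ 2 ∧ u ∈ P ∧ orderOf u = p ∧ (∀ v ∈ P, v * y = y * v) ∧
      (∀ v ∈ P, v * u = u * v) := by
  have : Fact p.Prime := ⟨hp⟩
  obtain ⟨P, hP⟩ := Sylow.exists_subgroup_card_pow_prime (G := centralizer ({y} : Set G)) p h
  have hPc : Nat.card (P.map (centralizer ({y} : Set G)).subtype) = p ^ 2 := by
    rw [card_map_of_injective (subtype_injective _), hP]
  have hcm : IsMulCommutative (P.map (centralizer ({y} : Set G)).subtype) :=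
    IsPGroup.isMulCommutative_of_card_eq_prime_sq hPc
  obtain ⟨u, hu, huo⟩ := exists_of_dvd hp (H := P.map (centralizer ({y} : Set G)).subtype)
    (by rw [hPc]; exact dvd_pow_self p (by norm_num))
  refine ⟨_, u, hPc, hu, huo, ?_, ?_⟩
  · rintro _ ⟨v, -, rfl⟩
    exact mem_centralizer_singleton_iff.1 v.2
  · intro v hv
    exact congrArg Subtype.val (hcm.is_comm.comm ⟨v, hv⟩ ⟨u, hu⟩)

theorem not_49 {y : Spor.Th} (hy : orderOf y = 3) : ¬ 49 ∣ Nat.card (centralizer ({y} : Set Spor.Th)) := by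
  have := fin_th
  have : Fact (Nat.Prime 7) := ⟨by norm_num⟩
  intro h49
  obtain ⟨P, u, hPc, huP, hu, hPy, hPu⟩ := exists_sq (by norm_num) (show 7 ^ 2 ∣ _ from h49)
  obtain ⟨g, hg⟩ := H49.ThSeven.dat.one u hu
  have hS := H723.Spor.Th.setup Cfsg.Agent.KFacts.Th.Main.ctx H723.Spor.Th.hone
  have hx7 : ev gTh X7 = gTh 6 := H723.Spor.Th.x7
  rw [hx7] at hg
  set s := gTh 6 with hs
  have hs7 : orderOf s = 7 := hS.s7
  have h168 : Nat.card (centralizer ({s} : Set Spor.Th)) = 7 * 168 := card_seven hs7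
  obtain ⟨e, -⟩ := Cfsg.Agent.ThType.CentSevenGL.exists_equiv hS.hyp (hS.card_Y h168)
  -- the elements `g v g⁻¹` of `C(s)`
  have hmem : ∀ {v : Spor.Th}, v * u = u * v → g * v * g⁻¹ ∈ ThType.CentSeven.Setup.H s := by
    intro v hv
    have h1 := mem_cent_conj (g := g) (mem_centralizer_singleton_iff.2 hv)
    rwa [hg] at h1
  have hyu : y * u = u * y := (hPy u huP).symm
  -- an element of `P` not mapping to 1
  obtain ⟨v, hvP, hv⟩ : ∃ v ∈ P, g * v * g⁻¹ ∉ zpowers s := by
    by_contra hcon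
    push Not at hcon
    have h1 : P.map (MulAut.conj g).toMonoidHom ≤ zpowers s := by
      rintro _ ⟨v, hv, rfl⟩
      exact hcon v hv
    have h2 := card_le_of_le h1
    rw [card_map_of_injective (MulAut.conj g).injective, hPc, Nat.card_zpowers, hs7] at h2
    norm_num at h2
  set V : ThType.CentSeven.Setup.H s := ⟨g * v * g⁻¹, hmem (hPu v hvP)⟩ with hV
  set Z : ThType.CentSeven.Setup.H s := ⟨g * y * g⁻¹, hmem hyu⟩ with hZ
  have hVZ : Z * V = V * Z := by
    apply Subtype.ext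
    show g * y * g⁻¹ * (g * v * g⁻¹) = g * v * g⁻¹ * (g * y * g⁻¹)
    calc g * y * g⁻¹ * (g * v * g⁻¹) = g * (y * v) * g⁻¹ := by group
      _ = g * (v * y) * g⁻¹ := by rw [hPy v hvP]
      _ = _ := by group
  have hV1 : ThType.CentSeven.Setup.pr s V ≠ 1 := by
    intro h1
    obtain ⟨k, hk⟩ := ThType.CentSeven.Setup.pr_eq_one.1 h1
    exact hv (mem_zpowers_iff.2 ⟨k, hk.symm⟩)
  have hV7 : orderOf (ThType.CentSeven.Setup.pr s V) = 7 := by
    have h1 : orderOf (ThType.CentSeven.Setup.pr s V) ∣ 7 ^ 2 := by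
      refine (orderOf_map_dvd _ V).trans ?_
      rw [hV, Subgroup.orderOf_mk, orderOf_conj', ← hPc]
      exact Subgroup.orderOf_dvd_natCard P hvP
    have h2 : orderOf (ThType.CentSeven.Setup.pr s V) ∣ 168 := by
      rw [← hS.card_Y h168]
      exact orderOf_dvd_natCard _
    obtain ⟨k, hk, hk'⟩ := (Nat.dvd_prime_pow (by norm_num)).1 h1
    rw [hk'] at h2 ⊢
    interval_cases k
    · exfalso
      rw [pow_zero] at hk'
      exact hV1 (orderOf_eq_one_iff.1 hk')
    · norm_num
    · norm_num at h2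
  have hZ3 : orderOf (ThType.CentSeven.Setup.pr s Z) = 3 := by
    have hZo : orderOf Z = 3 := by rw [hZ, Subgroup.orderOf_mk, orderOf_conj', hy]
    have h1 : orderOf (ThType.CentSeven.Setup.pr s Z) ∣ 3 := by
      have := orderOf_map_dvd (ThType.CentSeven.Setup.pr s) Z
      rwa [hZo] at this
    rcases (Nat.dvd_prime Nat.prime_three).1 h1 with h2 | h2
    · exfalso
      obtain ⟨k, hk⟩ := ThType.CentSeven.Setup.pr_eq_one.1 (orderOf_eq_one_iff.1 h2)
      have h3 : orderOf (Z : Spor.Th) ∣ 7 := by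
        rw [hk, ← hs7]
        exact orderOf_dvd_of_mem_zpowers (mem_zpowers_iff.2 ⟨k, rfl⟩)
      rw [Subgroup.orderOf_coe, hZo] at h3
      norm_num at h3
    · exact h2
  refine gl_three_seven (z := e (ThType.CentSeven.Setup.pr s Z)) (w := e (ThType.CentSeven.Setup.pr s V))
    (by rw [MulEquiv.orderOf_eq, hZ3]) (by rw [MulEquiv.orderOf_eq, hV7]) ?_
  rw [← map_mul, ← map_mul, ← map_mul, ← map_mul, hVZ]

/-! ### Elements of order 3 and 5 -/

theorem not_25 {y : Spor.Th} (hy : orderOf y = 3) : ¬ 25 ∣ Nat.card (centralizer ({y} : Set Spor.Th)) := by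
  have := fin_th
  have : Fact (Nat.Prime 5) := ⟨by norm_num⟩
  intro h25
  obtain ⟨P, u, hPc, huP, hu, hPy, hPu⟩ := exists_sq (by norm_num) (show 5 ^ 2 ∣ _ from h25)
  have h := KFacts.Th.Main.ctx
  obtain ⟨f, F⟩ := exists_epi h
  have hX : orderOf (ev gTh X5) = 5 := by
    have := o5 h F
    rwa [Subgroup.orderOf_mk] at this
  obtain ⟨_, x', y', z, a, D⟩ := H49.ThFive.exists_dat
  obtain ⟨g', hg'⟩ := D.all hu
  obtain ⟨k', hk'⟩ := D.all hX
  obtain ⟨g, hg⟩ : ∃ g, g * u * g⁻¹ = ev gTh X5 := ⟨k'⁻¹ * g', by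
    calc (k'⁻¹ * g') * u * (k'⁻¹ * g')⁻¹ = k'⁻¹ * (g' * u * g'⁻¹) * k' := by group
      _ = k'⁻¹ * (k' * ev gTh X5 * k'⁻¹) * k' := by rw [hg', hk']
      _ = _ := by group⟩
  have hmem : ∀ {v : Spor.Th}, v * u = u * v → g * v * g⁻¹ ∈ centralizer ({ev gTh X5} : Set Spor.Th) := by
    intro v hv
    have h1 := mem_cent_conj (g := g) (mem_centralizer_singleton_iff.2 hv)
    rwa [hg] at h1
  have hyu : y * u = u * y := (hPy u huP).symm
  obtain ⟨N, hN⟩ := (ThFive.Five.sit5 h F).core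
  have hN125 : Nat.card N = 125 := H227.IMTh.Five.card_N hN
  have hNn := hN.normal
  have hH : Nat.card (centralizer ({ev gTh X5} : Set Spor.Th)) = 3000 := card_five hX
  have hidx : Nat.card (↥(centralizer ({ev gTh X5} : Set Spor.Th)) ⧸ N) = 24 := by
    have h1 := Subgroup.card_eq_card_quotient_mul_card_subgroup N
    rw [hH, hN125] at h1
    omega
  set k : ↥(centralizer ({ev gTh X5} : Set Spor.Th)) := ⟨g * y * g⁻¹, hmem hyu⟩ with hk
  have hk3 : orderOf k = 3 := by rw [hk, Subgroup.orderOf_mk, orderOf_conj', hy]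
  have hz5 : orderOf (BpSpor.ThCent.xx gTh X5) = 5 := hN.toSit.oz
  have key : P.map (MulAut.conj g).toMonoidHom ≤
      (zpowers (BpSpor.ThCent.xx gTh X5)).map (centralizer ({ev gTh X5} : Set Spor.Th)).subtype := by
    rintro _ ⟨v, hv, rfl⟩
    show g * v * g⁻¹ ∈ _
    set n : ↥(centralizer ({ev gTh X5} : Set Spor.Th)) := ⟨g * v * g⁻¹, hmem (hPu v hv)⟩ with hn
    have hnN : n ∈ N := by
      rw [← QuotientGroup.eq_one_iff, ← orderOf_eq_one_iff]
      have h1 : orderOf (n : ↥(centralizer ({ev gTh X5} : Set Spor.Th)) ⧸ N) ∣ 24 := by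
        rw [← hidx]
        exact orderOf_dvd_natCard _
      have h2 : orderOf (n : ↥(centralizer ({ev gTh X5} : Set Spor.Th)) ⧸ N) ∣ 25 := by
        refine (orderOf_map_dvd (QuotientGroup.mk' N) n).trans ?_
        rw [hn, Subgroup.orderOf_mk, orderOf_conj', show 25 = Nat.card P by rw [hPc]; norm_num]
        exact Subgroup.orderOf_dvd_natCard P hv
      exact Nat.dvd_one.1 ((Nat.dvd_gcd h1 h2).trans (by norm_num))
    have hkn : k * n = n * k := by
      apply Subtype.ext
      show g * y * g⁻¹ * (g * v * g⁻¹) = g * v * g⁻¹ * (g * y * g⁻¹)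
      calc g * y * g⁻¹ * (g * v * g⁻¹) = g * (y * v) * g⁻¹ := by group
        _ = g * (v * y) * g⁻¹ := by rw [hPy v hv]
        _ = _ := by group
    have h3 : 3 ∣ Nat.card ↥(centralizer ({BpSpor.ThCent.sx h c5} : Set ↥(centralizer ({ev gTh X5} : Set Spor.Th)))) :=
      Dvd.dvd.trans (by norm_num) (H49.ThFive.c120 h F)
    have h4 := H227.IMTh.Five.three_comm hN hN125 (by rw [hH]; norm_num) h3 hk3 hnN hkn
    exact ⟨n, h4, rfl⟩
  have h2 := card_le_of_le key
  rw [card_map_of_injective (MulAut.conj g).injective, hPc, card_map_of_injective (subtype_injective _),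
    Nat.card_zpowers, hz5] at h2
  norm_num at h2

/-! ### The 2-part of the centralizers of the elements of order 3 -/

/-- a 2-group commuting with `a` and with a word of `C(a)` -/
theorem two_part {X : List ℕ} (hX : ∀ x ∈ X, isC x = true) {T : Tab} (hc : chk X T = true) {L : List ℕ}
    (hL : allB 512 (fun m => or (par m) (or (Bool.not (Nat.beq (Lf (Mt T) 9 m) m)) (L.any fun k => Nat.beq k m))) = true)
    {Y : Subgroup Spor.Th} (hY2 : IsPGroup 2 Y)
    (hY : ∀ y ∈ Y, y * gTh 1 = gTh 1 * y ∧ y * ev gTh X = ev gTh X * y) {n k : ℕ}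
    (hn : Nat.card ↥(centralizer ({pm9 X} : Set (Equiv.Perm (Fin 9)))) = n) (hk : ¬ 2 ^ (k + 1) ∣ n) :
    Nat.card Y ≤ 2 ^ k * (2 * L.length) := by
  have h := KFacts.Th.Main.ctx
  have := h.fin
  obtain ⟨f, F⟩ := exists_epi h
  have hYC : Y ≤ sub gTh isC := fun y hy => h.mem_C.2 (hY y hy).1
  obtain ⟨Y', hY'⟩ : ∃ Y' : Subgroup (sub gTh isC), Y' = Y.subgroupOf (sub gTh isC) := ⟨_, rfl⟩
  have hc1 : Nat.card Y' = Nat.card Y := by
    rw [hY']
    exact Nat.card_congr (Subgroup.subgroupOfEquivOfLe hYC).toEquiv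
  have hY2' : IsPGroup 2 Y' := by
    rw [hY']
    exact hY2.of_injective (Subgroup.subgroupOfEquivOfLe hYC).toMonoidHom
      (Subgroup.subgroupOfEquivOfLe hYC).injective
  have hmem : ∀ y ∈ Y', (y : Spor.Th) ∈ Y := by
    intro y hy
    rw [hY', mem_subgroupOf] at hy
    exact hy
  rw [← hc1]
  -- the image
  have h7 : Nat.card (Y'.map f) ≤ 2 ^ k := by
    have h1 : Nat.card (Y'.map f) ∣ n := by
      rw [← hn, ← Subgroup.card_map_of_injective (K := Y'.map f) (subtype_injective (alternatingGroup (Fin 9)))]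
      apply card_dvd_of_le
      rintro _ ⟨_, ⟨y, hy, rfl⟩, rfl⟩
      have h1 : f y * f ⟨ev gTh X, ev_mem_sub hX⟩ = f ⟨ev gTh X, ev_mem_sub hX⟩ * f y := by
        rw [← map_mul, ← map_mul]
        congr 1
        exact Subtype.ext (hY y (hmem y hy)).2
      have h2 := congrArg Subtype.val h1
      rw [Subgroup.coe_mul, Subgroup.coe_mul, F.word X hX] at h2
      exact mem_centralizer_singleton_iff.2 h2
    obtain ⟨j, hj⟩ := IsPGroup.iff_card.1 (hY2'.map f)
    rw [hj] at h1 ⊢
    refine Nat.pow_le_pow_right (by norm_num) ?_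
    by_contra hlt
    exact hk ((pow_dvd_pow 2 (by omega : k + 1 ≤ j)).trans h1)
  -- the kernel
  have h8 : Nat.card ↥(Y' ⊓ f.ker) ≤ 2 * L.length := by
    -- masks
    have hex : ∀ y : ↥(Y' ⊓ f.ker), ∃ m ∈ L, HM (gTh 1) (cc gTh) ((y : sub gTh isC) : Spor.Th) m := by
      intro y
      have hyQ : ((y : sub gTh isC) : Spor.Th) ∈ Q0 gTh := (mem_ker F).1 y.2.2
      exact comm_mask h hc hL hyQ (hY _ (hmem _ y.2.1)).2
    choose m hm hHM using hex
    -- elements with the same mask differ by `gTh 1`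
    have key : ∀ y z : ↥(Y' ⊓ f.ker), m y = m z → ((z : sub gTh isC) : Spor.Th) = y ∨
        ((z : sub gTh isC) : Spor.Th) = (y : sub gTh isC) * gTh 1 := by
      intro y z hyz
      have hyQ : ((y : sub gTh isC) : Spor.Th) ∈ Q0 gTh := (mem_ker F).1 y.2.2
      have hzQ : ((z : sub gTh isC) : Spor.Th) ∈ Q0 gTh := (mem_ker F).1 z.2.2
      exact eq_of_mask h.data h.cardQ hyQ hzQ (hHM y) (by rw [hyz]; exact hHM z)
    classical
    have : Fintype ↥(Y' ⊓ f.ker) := Fintype.ofFinite _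
    rw [Nat.card_eq_fintype_card, ← Finset.card_univ]
    have h5 : (Finset.univ : Finset ↥(Y' ⊓ f.ker)).card ≤ 2 * (Finset.univ.image m).card := by
      apply Finset.card_le_mul_card_image
      intro k hk
      obtain ⟨y, -, rfl⟩ := Finset.mem_image.1 hk
      have h6 : ((Finset.univ.filter fun z => m z = m y).image
          (fun z : ↥(Y' ⊓ f.ker) => ((z : sub gTh isC) : Spor.Th))) ⊆
          {((y : sub gTh isC) : Spor.Th), ((y : sub gTh isC) : Spor.Th) * gTh 1} := by
        intro g hg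
        obtain ⟨z, hz, rfl⟩ := Finset.mem_image.1 hg
        rw [Finset.mem_filter] at hz
        rw [Finset.mem_insert, Finset.mem_singleton]
        exact key y z hz.2.symm
      have h7 := Finset.card_le_card h6
      rw [Finset.card_image_of_injective _ (fun u v huv => Subtype.ext (Subtype.ext huv))] at h7
      exact h7.trans Finset.card_le_two
    have h6 : (Finset.univ.image m).card ≤ L.length := by
      have h7 : Finset.univ.image m ⊆ L.toFinset := by
        intro k hk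
        obtain ⟨y, -, rfl⟩ := Finset.mem_image.1 hk
        rw [List.mem_toFinset]
        exact hm y
      exact (Finset.card_le_card h7).trans (List.toFinset_card_le L)
    omega
  have h9 : Nat.card Y' = Nat.card (Y'.map f) * Nat.card ↥(Y' ⊓ f.ker) := by
    have h10 := (f.comp Y'.subtype).ker.card_mul_index
    rw [Subgroup.index_ker, MonoidHom.range_comp, Subgroup.range_subtype] at h10
    have h11 : Nat.card (f.comp Y'.subtype).ker = Nat.card ↥(Y' ⊓ f.ker) := by
      have h12 : (f.comp Y'.subtype).ker = (Y' ⊓ f.ker).subgroupOf Y' := by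
        rw [inf_subgroupOf_left]
        rfl
      rw [h12]
      exact Nat.card_congr (Subgroup.subgroupOfEquivOfLe inf_le_left).toEquiv
    rw [← h10, h11, mul_comm]
  rw [h9]
  exact Nat.mul_le_mul h7 h8

/-- **the 2-part of the centralizer of an element of order 3** -/
theorem not_256 {y : Spor.Th} (hy : orderOf y = 3) : ¬ 2 ^ 8 ∣ Nat.card (centralizer ({y} : Set Spor.Th)) := by
  have := fin_th
  have h2F : Fact (Nat.Prime 2) := ⟨Nat.prime_two⟩
  intro hd
  obtain ⟨P', hP'⟩ := Sylow.exists_subgroup_card_pow_prime (G := centralizer ({y} : Set Spor.Th)) 2 hd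
  set P : Subgroup Spor.Th := P'.map (centralizer ({y} : Set Spor.Th)).subtype with hPd
  have hP : Nat.card P = 2 ^ 8 := by rw [hPd, card_map_of_injective (subtype_injective _), hP']
  have hPy : P ≤ centralizer ({y} : Set Spor.Th) := map_subtype_le _
  -- a central involution
  have hPg : IsPGroup 2 P := IsPGroup.of_card hP
  have hPn : Nontrivial P := by
    rw [← Finite.one_lt_card_iff_nontrivial, hP]
    norm_num
  have hZn := hPg.center_nontrivial
  have hZ2 : 2 ∣ Nat.card (center P) := by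
    have h1 : IsPGroup 2 (center P) := hPg.to_subgroup _
    obtain ⟨j, hj⟩ := IsPGroup.iff_card.1 h1
    have h2 : 1 < Nat.card (center P) := Finite.one_lt_card_iff_nontrivial.2 hZn
    rw [hj] at h2 ⊢
    refine dvd_pow_self 2 ?_
    rintro rfl
    norm_num at h2
  obtain ⟨z, hz⟩ := exists_prime_orderOf_dvd_card' 2 hZ2
  have hz2 : orderOf ((z : P) : Spor.Th) = 2 := by rw [Subgroup.orderOf_coe, Subgroup.orderOf_coe, hz]
  have hzP : ∀ v ∈ P, v * ((z : P) : Spor.Th) = ((z : P) : Spor.Th) * v := by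
    intro v hv
    exact congrArg Subtype.val (mem_center_iff.1 z.2 ⟨v, hv⟩)
  -- `z` is `a`
  obtain ⟨g, hg⟩ := H723.Spor.Th.hone ((z : P) : Spor.Th) hz2
  have h := KFacts.Th.Main.ctx
  obtain ⟨f, F⟩ := exists_epi h
  have hyz : y * ((z : P) : Spor.Th) = ((z : P) : Spor.Th) * y :=
    (mem_centralizer_singleton_iff.1 (hPy (z : P).2)).symm
  have hmem : ∀ {v : Spor.Th}, v * ((z : P) : Spor.Th) = ((z : P) : Spor.Th) * v → g * v * g⁻¹ ∈ sub gTh isC := by
    intro v hv
    rw [h.mem_C, ← hg]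
    calc g * v * g⁻¹ * (g * ((z : P) : Spor.Th) * g⁻¹) = g * (v * ((z : P) : Spor.Th)) * g⁻¹ := by group
      _ = g * (((z : P) : Spor.Th) * v) * g⁻¹ := by rw [hv]
      _ = _ := by group
  have ho : orderOf (⟨g * y * g⁻¹, hmem hyz⟩ : sub gTh isC) = 3 := by rw [Subgroup.orderOf_mk, orderOf_conj', hy]
  have key : ∀ (X : List ℕ) (hX : ∀ x ∈ X, isC x = true) (d : sub gTh isC) {T : Tab} (_ : chk X T = true) {L : List ℕ}
      (_ : allB 512 (fun m => or (par m) (or (Bool.not (Nat.beq (Lf (Mt T) 9 m) m)) (L.any fun k => Nat.beq k m))) = true)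
      {n k : ℕ} (_ : Nat.card ↥(centralizer ({pm9 X} : Set (Equiv.Perm (Fin 9)))) = n) (_ : ¬ 2 ^ (k + 1) ∣ n),
      d * ⟨g * y * g⁻¹, hmem hyz⟩ * d⁻¹ = (⟨ev gTh X, ev_mem_sub hX⟩ : sub gTh isC) →
      2 ^ 8 ≤ 2 ^ k * (2 * L.length) := by
    intro X hX d T hc L hL n k hn hk hd
    have hd' : ((d : Spor.Th) * g) * y * ((d : Spor.Th) * g)⁻¹ = ev gTh X := by
      have h1 : (d : Spor.Th) * (g * y * g⁻¹) * (d : Spor.Th)⁻¹ = ev gTh X := congrArg Subtype.val hd
      rw [← h1]
      group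
    have hda : (d : Spor.Th) * gTh 1 * (d : Spor.Th)⁻¹ = gTh 1 := by
      rw [h.mem_C.1 d.2, mul_inv_cancel_right]
    have h1 : Nat.card (P.map (MulAut.conj ((d : Spor.Th) * g)).toMonoidHom) = 2 ^ 8 := by
      rw [card_map_of_injective (MulAut.conj _).injective, hP]
    rw [← h1]
    refine two_part hX hc hL (IsPGroup.of_card h1) ?_ hn hk
    rintro _ ⟨v, hv, rfl⟩
    show (d : Spor.Th) * g * v * ((d : Spor.Th) * g)⁻¹ * gTh 1 = gTh 1 * ((d : Spor.Th) * g * v * ((d : Spor.Th) * g)⁻¹) ∧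
      (d : Spor.Th) * g * v * ((d : Spor.Th) * g)⁻¹ * ev gTh X = ev gTh X * ((d : Spor.Th) * g * v * ((d : Spor.Th) * g)⁻¹)
    constructor
    · have h2 : ((d : Spor.Th) * g) * ((z : P) : Spor.Th) * ((d : Spor.Th) * g)⁻¹ = gTh 1 := by
        rw [← hda, ← hg]
        group
      rw [← h2]
      calc (d : Spor.Th) * g * v * ((d : Spor.Th) * g)⁻¹ * ((d : Spor.Th) * g * ((z : P) : Spor.Th) * ((d : Spor.Th) * g)⁻¹) =
          (d : Spor.Th) * g * (v * ((z : P) : Spor.Th)) * ((d : Spor.Th) * g)⁻¹ := by group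
        _ = (d : Spor.Th) * g * (((z : P) : Spor.Th) * v) * ((d : Spor.Th) * g)⁻¹ := by rw [hzP v hv]
        _ = _ := by group
    · rw [← hd']
      have h3 : v * y = y * v := mem_centralizer_singleton_iff.1 (hPy hv)
      calc (d : Spor.Th) * g * v * ((d : Spor.Th) * g)⁻¹ * ((d : Spor.Th) * g * y * ((d : Spor.Th) * g)⁻¹) =
          (d : Spor.Th) * g * (v * y) * ((d : Spor.Th) * g)⁻¹ := by group
        _ = (d : Spor.Th) * g * (y * v) * ((d : Spor.Th) * g)⁻¹ := by rw [h3]
        _ = _ := by group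
  obtain ⟨d, hd | hd | hd⟩ := exists_rep_three h F ho
  · have h1 := key X3 c3 d chk3 fix3 card3 (k := 4) (by norm_num) hd
    revert h1
    decide
  · have h1 := key X33 c33 d chk33 fix33 card33 (k := 2) (by norm_num) hd
    revert h1
    decide
  · have h1 := key X333 c333 d chk333 fix333 card333 (k := 1) (by norm_num) hd
    revert h1
    decide

end Cfsg.Agent.H491.PB.Th
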