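import Mathlib
import Cfsg.Agent.H491.PB.ThD
import Cfsg.Agent.H394.PBTools_m3
import Cfsg.Agent.H227.IMTh
import Cfsg.Agent.Prune
set_option linter.all false
prune_inst 0x7f00000000000000000000000000000000000000000000000000000000000000000000000000000000000000000000000000000000000000000000000000000000000000000000000000000000000000003fffffffffffffffffffffffffffbeffbdffffffff
open scoped Cfsg.Agent.FastGrp

/-!
# S4826, the row `Th` (helper491)

`row_th`: for every prime `p` dividing `|Th|` the principal `q`-block, for some prime `q ≠ p`, has a member of degree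
divisible by `p`.

* `p = 2` : a real element of order 13 with centralizer of odd order;
* `p = 3, 5, 13, 31` : the inverted element of order 19 (self-centralizing);
* `p = 7` : the centralizer `7 × L₃(2)` and `q = 2`;
* `p = 19` : the degree criterion with `31 · 5² · 3³ · 7 · 2⁸`.
-/

set_option autoImplicit false
set_option maxRecDepth 100000

namespace Cfsg.Agent.H491.PB.Th

open Subgroup Cfsg Cfsg.Agent.H502.TO Cfsg.Agent.H133.PB Cfsg.Agent.H709.PB
open Cfsg.Agent.H964.NoHall (thE thW thW_order thA_conj)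

universe u

theorem prime_cases {q : ℕ} (hq : q.Prime) (hd : q ∣ 90745943887872000) :
    q = 2 ∨ q = 3 ∨ q = 5 ∨ q = 7 ∨ q = 13 ∨ q = 19 ∨ q = 31 := by
  have h1 : q ∣ 2 ^ 15 * 3 ^ 10 * 5 ^ 3 * 7 ^ 2 * 13 * 19 * 31 := by
    refine hd.trans (dvd_of_eq ?_)
    norm_num
  have key : ∀ {r : ℕ}, r.Prime → ∀ {k : ℕ}, q ∣ r ^ k → q = r := fun {r} hr {k} h =>
    (Nat.prime_dvd_prime_iff_eq hq hr).1 (hq.dvd_of_dvd_pow h)
  rcases hq.dvd_mul.1 h1 with h1 | h1
  · rcases hq.dvd_mul.1 h1 with h1 | h1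
    · rcases hq.dvd_mul.1 h1 with h1 | h1
      · rcases hq.dvd_mul.1 h1 with h1 | h1
        · rcases hq.dvd_mul.1 h1 with h1 | h1
          · rcases hq.dvd_mul.1 h1 with h1 | h1
            · exact Or.inl (key Nat.prime_two h1)
            · exact Or.inr (Or.inl (key Nat.prime_three h1))
          · exact Or.inr (Or.inr (Or.inl (key Nat.prime_five h1)))
        · exact Or.inr (Or.inr (Or.inr (Or.inl (key (by norm_num) h1))))
      · exact Or.inr (Or.inr (Or.inr (Or.inr (Or.inl (key (r := 13) (k := 1) (by norm_num) (by rwa [pow_one]))))))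
    · exact Or.inr (Or.inr (Or.inr (Or.inr (Or.inr (Or.inl (key (r := 19) (k := 1) (by norm_num) (by rwa [pow_one])))))))
  · exact Or.inr (Or.inr (Or.inr (Or.inr (Or.inr (Or.inr (key (r := 31) (k := 1) (by norm_num) (by rwa [pow_one])))))))

/-- the orders of the centralizers of the elements of prime order -/
theorem cent_dvd {y : Spor.Th} (hy : (orderOf y).Prime) {q k : ℕ}
    (h2 : orderOf y = 2 → ¬ q ^ k ∣ 92897280) (h3 : orderOf y = 3 → ¬ q ^ k ∣ Nat.card (centralizer ({y} : Set Spor.Th)))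
    (h5 : orderOf y = 5 → ¬ q ^ k ∣ 3000) (h7 : orderOf y = 7 → ¬ q ^ k ∣ 7 * 168)
    (h13 : orderOf y = 13 → ¬ q ^ k ∣ Nat.card (centralizer ({y} : Set Spor.Th)))
    (h19 : orderOf y = 19 → ¬ q ^ k ∣ 19) (h31 : orderOf y = 31 → ¬ q ^ k ∣ 31) :
    ¬ q ^ k ∣ Nat.card (centralizer ({y} : Set Spor.Th)) := by
  have := fin_th
  have hd : orderOf y ∣ 90745943887872000 := by
    rw [← card_th]
    exact orderOf_dvd_natCard y
  rcases prime_cases hy hd with h | h | h | h | h | h | h
  · rw [MonsterX.ThOneClass.card_centralizer h]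
    exact h2 h
  · exact h3 h
  · rw [card_five h]
    exact h5 h
  · rw [card_seven h]
    exact h7 h
  · exact h13 h
  · rw [card_nineteen h]
    exact h19 h
  · rw [card_thirtyone h]
    exact h31 h

/-! ### The row -/

theorem inverted (p : ℕ) [Fact p.Prime] (hp : p ≠ 19) (h : ∃ k : ℕ, p ^ k ∣ 90745943887872000 ∧ ¬ p ^ k ∣ 92897280 ^ 2) :
    Row p Spor.Th := by
  have := fin_th
  have : Fact (Nat.Prime 19) := ⟨by norm_num⟩
  have hinv : thE (.g .a) * thE thW * (thE (.g .a))⁻¹ = (thE thW)⁻¹ :=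
    H227.IMTh.inv_of_pow (n := 18) (orderOf_dvd_iff_pow_eq_one.1 (dvd_of_eq thW_order)) thA_conj
  refine Row.of_inverted (q := 19) (by norm_num) (Ne.symm hp) (by rw [card_th]; norm_num) thW_order
    (isConj_iff.2 ⟨_, hinv⟩) (card_nineteen thW_order) ?_
  intro t ht _
  rw [MonsterX.ThOneClass.card_centralizer ht, card_th]
  exact h

theorem row_two : Row 2 Spor.Th := by
  have := fin_th
  have : Fact (Nat.Prime 13) := ⟨by norm_num⟩
  obtain ⟨x, hx, hr⟩ := Cfsg.Agent.H661.Spor.Th.hasReal.isConj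
  refine Row.of_real_odd (q := 13) (g := x) ⟨1, by rw [hx, pow_one]⟩ ?_ hr ?_
  · rintro rfl
    rw [orderOf_one] at hx
    omega
  · rw [← Nat.not_even_iff_odd, even_iff_two_dvd]
    exact odd_cent (by norm_num) (by norm_num) hx

/-- a group of order 168 whose involutions have centralizers of order 8 -/
theorem dzb_168 {Y : Type u} [Group Y] [Finite Y] (hY : Nat.card Y = 168)
    (h8 : ∀ u : Y, orderOf u = 2 → Nat.card (centralizer ({u} : Set Y)) = 8) : DZB 7 2 Y := by
  have : Fact (Nat.Prime 2) := ⟨Nat.prime_two⟩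
  have : Fact (Nat.Prime 7) := ⟨by norm_num⟩
  obtain ⟨χ, hχ⟩ := H227.IMTh.im_of_168 hY h8
  -- the degree
  have hsq := sq_le χ
  rw [hY] at hsq
  have h7 : charDegree (χ : Y → ℂ) = 7 := by
    obtain ⟨c, hc⟩ := hχ
    have h1 := Cfsg.Agent.Blocks.Basic.charDegree_pos χ.2
    rw [hc] at hsq h1 ⊢
    have h2 : c < 2 := by
      by_contra h
      push Not at h
      have h3 : (7 * 2) ^ 2 ≤ (7 * c) ^ 2 := Nat.pow_le_pow_left (Nat.mul_le_mul_left 7 h) 2
      omega
    interval_cases c
    · omega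
    · rfl
  obtain ⟨Q⟩ : Nonempty (Sylow 2 Y) := inferInstance
  have hQ2 : 2 ∣ Nat.card (Q : Subgroup Y) := by
    have := Q.pow_dvd_card_of_pow_dvd_card (n := 1) (by rw [hY]; norm_num)
    rwa [pow_one] at this
  obtain ⟨u, huQ, hu⟩ := exists_of_dvd Nat.prime_two hQ2
  refine DZB.of_sylow Q ?_ χ (by rw [h7]; norm_num) ?_
  · have h1 : IsPGroup 2 (centralizer ({u} : Set Y)) := IsPGroup.of_card (n := 3) (by rw [h8 u hu]; norm_num)
    exact h1.to_le (centralizer_le (Set.singleton_subset_iff.2 huQ))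
  · rw [h7, hY, show 168 = 7 * 24 by norm_num, Nat.factorization_mul (by norm_num) (by norm_num)]
    simp [Nat.factorization_eq_zero_of_not_dvd (show ¬ 7 ∣ 24 by decide)]

theorem row_seven : Row 7 Spor.Th := by
  have := fin_th
  have : Fact (Nat.Prime 2) := ⟨Nat.prime_two⟩
  have : Fact (Nat.Prime 7) := ⟨by norm_num⟩
  have h := H723.Spor.Th.setup Cfsg.Agent.KFacts.Th.Main.ctx H723.Spor.Th.hone
  set s := Cfsg.Agent.Th.IndexUpper.gTh 6 with hs
  have h7 : orderOf s = 7 := h.s7
  have h168 : Nat.card (centralizer ({s} : Set Spor.Th)) = 7 * 168 := card_seven h7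
  have hY := h.card_Y h168
  refine Row.intro Nat.prime_two (by norm_num) (by rw [card_th]; norm_num) ?_
  refine BD.of_elem' (by norm_num) h7 (by rw [card_th]; norm_num) (ThType.CentSeven.Setup.pr s)
    (ThType.CentSeven.Setup.pr_surj s) ?_ (by rw [h168, hY]) (dzb_168 hY fun u hu => ?_)
  · exact ThType.CentSeven.Setup.pr_eq_one.2 ⟨1, by rw [zpow_one]⟩
  · exact h.hyp.card_cent u (by rw [← pow_two, ← hu, pow_orderOf_eq_one]) (by
      rintro rfl
      rw [orderOf_one] at hu
      omega)

theorem nb_31 : NB 31 1 Spor.Th := by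
  have := fin_th
  have : Fact (Nat.Prime 31) := ⟨by norm_num⟩
  obtain ⟨y, f, hy, -, -⟩ := exists_thirtyone
  exact NB.of_self (g := y) (IsPGroup.of_card (n := 1) (by rw [card_thirtyone hy, pow_one])) ⟨1, by rw [hy, pow_one]⟩

theorem nb_5 : NB 5 2 Spor.Th := by
  have := fin_th
  have : Fact (Nat.Prime 5) := ⟨by norm_num⟩
  refine NB.of_orders (a := 3) (by rw [card_th]; norm_num) fun y hy hne => cent_dvd hy ?_ ?_ ?_ ?_ ?_ ?_ ?_
  · intro _; norm_num
  · intro h; exact fun hd => not_25 h (Dvd.dvd.trans (by norm_num) hd)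
  · intro h; exact absurd h hne
  · intro _; norm_num
  · intro h hd
    exact not_dvd_five (by norm_num) (by norm_num) h (Dvd.dvd.trans (by norm_num) hd)
  · intro _; norm_num
  · intro _; norm_num

theorem nb_3 : NB 3 3 Spor.Th := by
  have := fin_th
  have : Fact (Nat.Prime 3) := ⟨by norm_num⟩
  refine NB.of_orders (a := 10) (by rw [card_th]; norm_num) fun y hy hne => cent_dvd hy ?_ ?_ ?_ ?_ ?_ ?_ ?_
  · intro _; norm_num
  · intro h; exact absurd h hne
  · intro _; norm_num
  · intro _; norm_num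
  · intro h; exact no_38 (Or.inl rfl) h
  · intro _; norm_num
  · intro _; norm_num

theorem nb_7 : NB 7 1 Spor.Th := by
  have := fin_th
  have : Fact (Nat.Prime 7) := ⟨by norm_num⟩
  refine NB.of_orders (a := 2) (by rw [card_th]; norm_num) fun y hy hne => cent_dvd hy ?_ ?_ ?_ ?_ ?_ ?_ ?_
  · intro _; norm_num
  · intro h; exact fun hd => not_49 h (Dvd.dvd.trans (by norm_num) hd)
  · intro _; norm_num
  · intro h; exact absurd h hne
  · intro h hd
    exact (thirteen h).1 (Dvd.dvd.trans (by norm_num) hd)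
  · intro _; norm_num
  · intro _; norm_num

theorem nb_2 : NB 2 8 Spor.Th := by
  have := fin_th
  have : Fact (Nat.Prime 2) := ⟨by norm_num⟩
  refine NB.of_orders (a := 15) (by rw [card_th]; norm_num) fun y hy hne => cent_dvd hy ?_ ?_ ?_ ?_ ?_ ?_ ?_
  · intro h; exact absurd h hne
  · intro h; exact not_256 h
  · intro _; norm_num
  · intro _; norm_num
  · intro h hd
    exact odd_cent (by norm_num) (by norm_num) h (Dvd.dvd.trans (by norm_num) hd)
  · intro _; norm_num
  · intro _; norm_num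

theorem row_nineteen : Row 19 Spor.Th := by
  have := fin_th
  refine H709.PB.Row.of_IM (by norm_num) H227.IMTh.im_nineteen [(31, 1), (5, 2), (3, 3), (7, 1), (2, 8)] (by decide) ?_ ?_
  · intro x hx
    simp only [List.mem_cons, List.not_mem_nil, or_false] at hx
    rw [card_th]
    rcases hx with rfl | rfl | rfl | rfl | rfl
    · exact ⟨by norm_num, by norm_num, by norm_num, nb_31⟩
    · exact ⟨by norm_num, by norm_num, by norm_num, nb_5⟩
    · exact ⟨by norm_num, by norm_num, by norm_num, nb_3⟩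
    · exact ⟨by norm_num, by norm_num, by norm_num, nb_7⟩
    · exact ⟨by norm_num, by norm_num, by norm_num, nb_2⟩
  · rw [card_th]
    norm_num

/-- **the row `Th`** -/
theorem row_th {S : Type u} [Group S] (h : Cfsg.Spor.IsoTh S) {p : ℕ} (hp : p.Prime) (hd : p ∣ Nat.card S) :
    Cfsg.Agent.H133.PB.Row p S := by
  obtain ⟨e⟩ := h
  refine Row.of_equiv e ?_
  rw [Nat.card_congr e.toEquiv, card_th] at hd
  have : Fact p.Prime := ⟨hp⟩
  rcases prime_cases hp hd with rfl | rfl | rfl | rfl | rfl | rfl | rfl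
  · exact row_two
  · exact inverted 3 (by norm_num) ⟨9, by norm_num, by norm_num⟩
  · exact inverted 5 (by norm_num) ⟨3, by norm_num, by norm_num⟩
  · exact row_seven
  · exact inverted 13 (by norm_num) ⟨1, by norm_num, by norm_num⟩
  · exact row_nineteen
  · exact inverted 31 (by norm_num) ⟨1, by norm_num, by norm_num⟩

end Cfsg.Agent.H491.PB.Th
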